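import Groth.Agent.S11345
import Groth.Agent.Lib.NumConn10.Rational
import Groth.Agent.Lib.BlowPic10.Basic
import Groth.Agent.Lib.BlowInt10.Basic
import Groth.Agent.S11746
import Groth.Agent.Lib.CMReg18.EulerBinom
import Groth.Agent.Lib.NumPoly18.PushInv

/-!
# The canonical class of a blown up plane against the class of a line
-/

set_option autoImplicit false
set_option linter.style.haveILetI false
set_option linter.unusedSectionVars false
set_option maxHeartbeats 1000000
set_option backward.isDefEq.respectTransparency false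
set_option backward.isDefEq.respectTransparency.types false

universe u

open CategoryTheory CategoryTheory.Limits AlgebraicGeometry TopologicalSpace Opposite

namespace Groth.Agent.PlaneBlow10

open Groth.Agent Groth.Agent.NumConn10
open Groth.Agent.SymSq10 (sdot)
open Groth.Agent.SurfRR10 (ncl)
open Groth.Agent.NumPoly18 (ptIdeal)
open Groth.Agent.HypSq10 (chi rep rep_inv cls_rep)
open Groth.Agent.BlowPic10 (isIso_idealModι_restrict)

noncomputable local instance instLawPl (Y : Scheme.{u}) : PicGrp.Law Y := M2.law Y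

/-- A finite set of closed points has dimension zero. -/
theorem dim_le_zero_of_finite {X : Type u} [TopologicalSpace X] {S : Set X} (hS : S.Finite)
    (hc : ∀ x ∈ S, IsClosed ({x} : Set X)) : topologicalKrullDim S ≤ ((0 : ℕ) : WithBot ℕ∞) := by
  haveI : Finite S := hS
  haveI : T1Space S := ⟨fun x => by
    rw [show ({x} : Set S) = Subtype.val ⁻¹' {(x : X)} from by ext y; simp [Subtype.ext_iff]]
    exact (hc x x.2).preimage continuous_subtype_val⟩
  rw [Nat.cast_zero, topologicalKrullDim, Order.krullDim_nonpos_iff_forall_isMax]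
  intro A B hAB
  have hB : (B : Set S).Subsingleton := B.isIrreducible.isPreirreducible.subsingleton
  intro z hz
  obtain ⟨a, ha⟩ := A.isIrreducible.nonempty
  exact hB hz (hAB ha) ▸ ha

variable {k : Type u} [Field k] [IsAlgClosed k] {X : Scheme.{u}} [X.Over (Spec (CommRingCat.of k))]
  [IsProper (X ↘ Spec (CommRingCat.of k))] [Smooth (X ↘ Spec (CommRingCat.of k))] [IsIntegral X]
  (hdim : topologicalKrullDim X = 2)
include k hdim

theorem sdot_icl_eq_zero {K : X.IdealSheafData} (hK : BlowUp.IsEffCartierIdeal K) (d : PicLoc.PicSet X)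
    (hd : ∀ (ξ : X) (hξ : topologicalKrullDim (closure ({ξ} : Set X)) = 1), ξ ∈ (K.support : Set X) →
      sdot k (ncl (k := k) hdim hξ) d = 0) : sdot k (icl hK) d = 0 := by
  obtain ⟨s, hs, -, hcl, hsupp⟩ := exists_multiset (k := k) hdim K hK
  rw [hcl hK, SurfRR10.sdot_inv_left (k := k) hdim, neg_eq_zero]
  have h : ∀ t : Multiset X, (∀ ξ ∈ t, ξ ∈ s) → sdot k (t.map (ccl (k := k) hdim)).prod d = 0 := by
    intro t
    induction t using Multiset.induction_on with
    | empty => intro _; rw [Multiset.map_zero, Multiset.prod_zero]; exact SymSq10.sdot_one_left _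
    | cons a t ih =>
      intro ht
      rw [Multiset.map_cons, Multiset.prod_cons, SymSq10.sdot_mul (k := k) (SurfRR10.dim_eq (k := k) hdim).le,
        ih fun ξ hξ => ht ξ (Multiset.mem_cons_of_mem hξ), add_zero]
      have ha := ht a (Multiset.mem_cons_self a t)
      rw [ccl, Goodman10.cl'_eq (k := k) _ _ (hs a ha)]
      exact hd a (hs a ha) ((hsupp a).2 ⟨a, ha, specializes_rfl⟩)
  exact h s fun _ => id

/-- A module trivial off a divisor is orthogonal to what is orthogonal to the divisor's curves. -/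
theorem sdot_eq_zero_of_trivial_off {E : X.IdealSheafData} (hEc : BlowUp.IsEffCartierIdeal E)
    {M : X.Modules} (hM : PicF.IsInvertible M)
    (e : (Scheme.Modules.restrictFunctor (Scheme.Opens.ι E.support.compl)).obj M ≅
      (Scheme.Modules.restrictFunctor (Scheme.Opens.ι E.support.compl)).obj (Coh.structureModule X))
    (d : PicLoc.PicSet X)
    (hd : ∀ (ξ : X) (hξ : topologicalKrullDim (closure ({ξ} : Set X)) = 1), ξ ∈ (E.support : Set X) →
      sdot k (ncl (k := k) hdim hξ) d = 0) : sdot k (PicGrp.cls M hM) d = 0 := by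
  haveI : IsNoetherian X := CohFound.isNoetherian_of_isProper (X ↘ (Spec (CommRingCat.of k)))
  let U : X.Opens := E.support.compl
  let R := Scheme.Modules.restrictFunctor U.ι
  obtain ⟨F', ι, φ', hι, hF', hιiso, hφ'⟩ := Groth.Agent.S0816.result X (Coh.structureModule X) M
    (M1.isCoh_structureModule X) (Snapper.isCoh_of_isInvertible hM) U e.inv
  haveI := hι
  haveI := hF'.1
  let J := SecDiv.ofMono ι
  obtain ⟨eJ⟩ := SecDiv.nonempty_iso_idealMod ι
  have hJ : (J.support : Set X) ⊆ (E.support : Set X) := by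
    intro z hz
    by_contra hzU
    obtain ⟨W, hW, hzW, hWU⟩ := exists_isAffineOpen_mem_and_subset (U := U) (show z ∈ U from hzU)
    have htop : J.ideal ⟨W, hW⟩ = ⊤ := by
      haveI := hιiso
      have himg : U.ι ''ᵁ (U.ι ⁻¹ᵁ W) = W := by
        rw [U.ι.image_preimage_eq_opensRange_inf, Scheme.Opens.opensRange_ι]
        exact inf_eq_right.2 hWU
      haveI hb' : IsIso (((R.map ι)).app (U.ι ⁻¹ᵁ W)) := inferInstance
      have hb : Function.Surjective (ι.app W) := by
        have h1 : Function.Surjective (ι.app (U.ι ''ᵁ (U.ι ⁻¹ᵁ W))) :=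
          (ConcreteCategory.bijective_of_isIso (((R.map ι)).app (U.ι ⁻¹ᵁ W))).2
        rw [himg] at h1
        exact h1
      refine (Ideal.eq_top_iff_one _).2 ?_
      obtain ⟨a, ha⟩ := hb (1 : Γ(X, W))
      exact ⟨a, ha⟩
    rw [SetLike.mem_coe, Scheme.IdealSheafData.mem_support_iff_of_mem (U := ⟨W, hW⟩) hzW, Scheme.mem_zeroLocus_iff] at hz
    refine hz 1 (by rw [htop]; trivial) ?_
    rw [Scheme.basicOpen_of_isUnit _ isUnit_one]
    exact hzW
  obtain ⟨n, hn⟩ := FormalH7.exists_pow_le_of_support_le E J hJ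
  let K := E ^ (n + 1)
  have hKc : BlowUp.IsEffCartierIdeal K := BlowUpExist.isEffCartierIdeal_pow hEc _
  let T : ClSub.idealMod K ⟶ M := HdgLef1.idealMap hn ≫ eJ.inv ≫ φ'
  have hTiso : IsIso (R.map T) := by
    haveI := hιiso
    haveI : IsIso (R.map φ') := by rw [hφ']; infer_instance
    haveI h1 : IsIso (R.map (ClSub.idealModι J)) := isIso_idealModι_restrict J U
      (Set.disjoint_left.2 fun z hzU hzJ => hzU (hJ hzJ))
    haveI h2 : IsIso (R.map (ClSub.idealModι K)) := isIso_idealModι_restrict K U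
      (Set.disjoint_left.2 fun z hzU hzK => hzU (by rwa [Scheme.IdealSheafData.support_pow _ _ (Nat.succ_ne_zero n)] at hzK))
    haveI h3 : IsIso (R.map (HdgLef1.idealMap hn)) := by
      have h : R.map (HdgLef1.idealMap hn) ≫ R.map (ClSub.idealModι J) = R.map (ClSub.idealModι K) := by
        rw [← Functor.map_comp]
        exact congrArg R.map (kernel.lift_ι _ _ _)
      exact IsIso.of_isIso_fac_right h
    show IsIso (R.map (HdgLef1.idealMap hn ≫ eJ.inv ≫ φ'))
    rw [Functor.map_comp, Functor.map_comp]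
    infer_instance
  obtain ⟨V, hV, ⟨eV⟩⟩ := M2.exists_inverse (M2.isInvertible_idealMod K hKc)
  let N := CohB1.tensorMod M V
  have hN : PicF.IsInvertible N := M2.isInvertible_tensor hM hV
  let σ : Coh.structureModule X ⟶ N := eV.inv ≫ M2.tensorMap T (𝟙 V)
  have hσ : IsIso (R.map σ) := by
    haveI := hTiso
    haveI : IsIso (R.map (M2.tensorMap T (𝟙 V))) := by
      have h := RHom.restrictTensorIso_natural U.ι T (𝟙 V)
      have e2 : R.map (M2.tensorMap T (𝟙 V)) = (M2.restrictTensorIso U.ι _ _).hom ≫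
          M2.tensorMap (R.map T) (R.map (𝟙 V)) ≫ (M2.restrictTensorIso U.ι _ _).inv := by
        rw [← Category.assoc, ← h, Category.assoc, Iso.hom_inv_id, Category.comp_id]
      haveI : IsIso (M2.tensorMap (R.map T) (R.map (𝟙 V))) :=
        (M2.tensorIso (asIso (R.map T)) (asIso (R.map (𝟙 V)))).isIso_hom
      rw [e2]
      infer_instance
    show IsIso (R.map (eV.inv ≫ M2.tensorMap T (𝟙 V)))
    rw [Functor.map_comp]
    infer_instance
  have hle : U ≤ CohB1.genLocus N σ := Twist.le_genLocus hσ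
  have hgen : genericPoint X ∈ U := by
    intro h
    obtain ⟨W, hW, g, -, hg0, hgm, -⟩ := SecDiv.exists_stalk_eqn hEc h
    rw [IsLocalRing.maximalIdeal_eq_bot, Ideal.mem_bot] at hgm
    exact zero_notMem_nonZeroDivisors (hgm ▸ hg0)
  have hσ0 : σ ≠ 0 := fun h => by
    have hη' := hle hgen
    rw [h, Amp.mem_genLocus_iff hN, show Amp.gval (0 : Coh.structureModule X ⟶ N) = 0 from rfl, Amp.gm, map_zero] at hη'
    exact one_ne_zero (hη'.1 ((smul_zero (1 : X.presheaf.stalk (genericPoint X))).trans (smul_zero 0).symm))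
  have hZc := IrrDiv13.isEffCartier_zeroScheme hN σ hσ0
  obtain ⟨N', hN', ⟨eN⟩⟩ := M2.exists_inverse hN
  obtain ⟨eZ⟩ := IrrDiv13.nonempty_inverse_iso_zeroScheme hN hN' eN σ hσ0
  have hcN : PicGrp.cls N hN * icl hZc = 1 :=
    (PicGrp.cls_mul_cls_eq_one_iff hN (M2.isInvertible_idealMod _ hZc)).2 ⟨M2.tensorIso (Iso.refl N) eZ.symm ≪≫ eN⟩
  have hsub : ((PicF2.zeroScheme N σ).support : Set X) ⊆ E.support := fun z hz => by
    rw [AffCompl.coe_support_zeroScheme hN σ] at hz
    exact by_contra fun h => hz (hle h)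
  have hz1 := sdot_icl_eq_zero (k := k) hdim hZc d fun ξ hξ h => hd ξ hξ (hsub h)
  have hz2 := sdot_icl_eq_zero (k := k) hdim hEc d hd
  have hclV : PicGrp.cls V hV = (icl hEc ^ (n + 1))⁻¹ := by
    rw [← PicGrp.cls_inv_eq_cls (M2.isInvertible_idealMod K hKc) hV ⟨eV⟩,
      show PicGrp.cls (ClSub.idealMod K) (M2.isInvertible_idealMod K hKc) = icl hKc from rfl,
      BlowPic10.icl_pow hEc (n + 1)]
  have hclN : PicGrp.cls N hN = PicGrp.cls M hM * PicGrp.cls V hV := (AlgEquiv22.cls_tensor hM hV).symm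
  have h0 := congrArg (fun c => sdot k c d) hcN
  simp only [hclN, hclV, SymSq10.sdot_mul (k := k) (SurfRR10.dim_eq (k := k) hdim).le,
    SurfRR10.sdot_inv_left (k := k) hdim, SurfRR10.sdot_pow_left (k := k) hdim, hz1, hz2, SymSq10.sdot_one_left] at h0
  linarith

/-- Intersection numbers of pullbacks along a morphism which is an isomorphism outside a finite set. -/
theorem sdot_pullback_birational {Y : Scheme.{u}} [Y.Over (Spec (CommRingCat.of k))]
    [IsProper (Y ↘ Spec (CommRingCat.of k))] (σ : X ⟶ Y) [IsProper σ]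
    (hσk : σ ≫ (Y ↘ Spec (CommRingCat.of k)) = X ↘ (Spec (CommRingCat.of k)))
    (hdY : topologicalKrullDim Y ≤ ((2 : ℕ) : WithBot ℕ∞)) (V : Y.Opens) [IsIso (σ ∣_ V)]
    (hV : topologicalKrullDim ↥((V : Set Y)ᶜ) ≤ ((0 : ℕ) : WithBot ℕ∞))
    {A B : Y.Modules} (hA : PicF.IsInvertible A) (hB : PicF.IsInvertible B)
    (hA' : PicF.IsInvertible ((Scheme.Modules.pullback σ).obj A)) (hB' : PicF.IsInvertible ((Scheme.Modules.pullback σ).obj B)) :
    sdot k (PicGrp.cls _ hA') (PicGrp.cls _ hB') = sdot k (PicGrp.cls A hA) (PicGrp.cls B hB) := by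
  have hd := SurfRR10.dim_eq (k := k) (X := X) hdim
  have hAB : ∀ j, PicF.IsInvertible ((![A, B] : Fin 2 → Y.Modules) j) := fun j => by fin_cases j <;> assumption
  have hO' := M1.isCoh_structureModule X
  have hP := NumPoly18.isCoh_push_proper (k := k) σ hO'
  have h1 := Groth.Agent.S11746.result k Y X σ hσk 2 2 hdY hd.le _ hAB (Coh.structureModule X) hO'
    ((Topology.IsInducing.subtypeVal.topologicalKrullDim_le).trans hd.le)
  rw [show (fun j => (Scheme.Modules.pullback σ).obj ((![A, B] : Fin 2 → Y.Modules) j)) =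
      (![(Scheme.Modules.pullback σ).obj A, (Scheme.Modules.pullback σ).obj B] : Fin 2 → X.Modules) from
      funext fun j => by fin_cases j <;> rfl, SymSq10.intNum_eq' (k := k) hd.le hA' hB'] at h1
  refine h1.trans ?_
  refine Eq.trans ?_ (SymSq10.intNum_eq' (k := k) hdY hA hB)
  have h2 : (FGA.intNum k Y 2 ![A, B] ((Coh.push σ).obj (Coh.structureModule X)) : ℚ) =
      FGA.intNum k Y 2 ![A, B] (Coh.structureModule Y) := by
    rw [BlowInt10.intNum2_eq_md hdY hA hB (M1.isCoh_structureModule _)]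
    refine (BlowInt10.intNum2_eq_md hdY hA hB hP).trans ?_
    exact BlowInt10.md_pushUnit σ V (by decide) hV (NumPoly18.isInvertible_cons hA fun _ => hB) hP
  exact_mod_cast h2

omit hdim in
/-- The plane: a line meets the canonical class with degree `-3`. -/
theorem plane_numbers : letI : (CohB1.ProjSpace 2 k).Over (Spec (CommRingCat.of k)) := ⟨CohB1.ProjSpace.toSpec 2 k⟩
    ∃ (W : (CohB1.ProjSpace 2 k).Modules) (hW : PicF.IsInvertible W) (hT : PicF.IsInvertible (Twist.twistProjSpace 2 k 1)),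
      ExtPow.IsExtPow 2 (Omega.sheaf (CohB1.ProjSpace.toSpec 2 k)) W ∧
      sdot k (PicGrp.cls _ hT) (PicGrp.cls _ hT) = 1 ∧ sdot k (PicGrp.cls _ hT) (PicGrp.cls W hW) = -3 := by
  letI : (CohB1.ProjSpace 2 k).Over (Spec (CommRingCat.of k)) := ⟨CohB1.ProjSpace.toSpec 2 k⟩
  haveI : IsProper ((CohB1.ProjSpace 2 k) ↘ Spec (CommRingCat.of k)) := ProjSpace.isProper_toSpec 2 k
  haveI : Smooth ((CohB1.ProjSpace 2 k) ↘ Spec (CommRingCat.of k)) :=
    (inferInstance : Smooth (CohB1.ProjSpace.toSpec 2 k))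
  haveI := RegExt.isIntegral_projSpace 2 k
  have hdP : topologicalKrullDim (CohB1.ProjSpace 2 k) = 2 := by rw [Groth.Agent.S10829.result k 2]; rfl
  obtain ⟨W, hW⟩ := NumConn10.exists_canonical (k := k) hdP
  have hWi := SurfRR10.isInvertible_canonical hdP hW
  let D := CMReg18.projData k 2
  have hT := D.inv 1
  have hchi : ∀ a : ℤ, chi k (PicGrp.cls (D.O a) (D.inv a)) = Ring.choose (a + (2 : ℕ)) 2 := fun a => by
    rw [← HypSq10.euler_eq_chi (D.inv a)]
    exact CMReg18.euler_twist a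
  have h1 : chi k (PicGrp.cls (D.O 1) (D.inv 1)) = 3 := by rw [hchi]; decide
  have h0 : chi k (1 : PicLoc.PicSet (CohB1.ProjSpace 2 k)) = 1 := by
    rw [← PicGrp.cls_structureModule_eq_one,
      (PicGrp.cls_eq_cls_iff (PicLoc.isInvertible_structureModule _) (D.inv 0)).2 ⟨D.zero.symm⟩, hchi]
    decide
  have h2 : chi k (PicGrp.cls (D.O 1) (D.inv 1) * PicGrp.cls (D.O 1) (D.inv 1)) = 6 := by
    rw [AlgEquiv22.cls_tensor, (PicGrp.cls_eq_cls_iff (M2.isInvertible_tensor (D.inv 1) (D.inv 1)) (D.inv (1 + 1))).2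
      ⟨D.add 1 1⟩, hchi]
    decide
  have hsq : sdot k (PicGrp.cls (D.O 1) (D.inv 1)) (PicGrp.cls (D.O 1) (D.inv 1)) = 1 := by
    rw [sdot, h2, h1, h0]; norm_num
  have hrr := SurfRR10.rr hdP hW hWi (PicGrp.cls (D.O 1) (D.inv 1))
  rw [SurfRR10.phi, h1, h0, hsq] at hrr
  refine ⟨W, hWi, hT, hW, hsq, ?_⟩
  show sdot k (PicGrp.cls (D.O 1) (D.inv 1)) (PicGrp.cls W hWi) = -3
  linarith

/-- The class of a line on a blown up plane has square one and degree `-3` on the canonical class. -/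
theorem line_numbers {r : ℕ} {P : Fin r → ↥(CohB1.ProjSpace 2 k)}
    (hPc : ∀ i, IsClosed ({P i} : Set ↥(CohB1.ProjSpace 2 k))) (hZ : IsClosed (Set.range P))
    (σ : X ⟶ CohB1.ProjSpace 2 k) (hσk : σ ≫ CohB1.ProjSpace.toSpec 2 k = X ↘ (Spec (CommRingCat.of k)))
    (hσ : BlowUp.IsBlowUp σ (Scheme.IdealSheafData.vanishingIdeal ⟨Set.range P, hZ⟩))
    {W : X.Modules} (hW : ExtPow.IsExtPow 2 (Omega.sheaf (X ↘ (Spec (CommRingCat.of k)))) W) (hWi : PicF.IsInvertible W)
    (hH : PicF.IsInvertible ((Scheme.Modules.pullback σ).obj (Twist.twistProjSpace 2 k 1))) :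
    sdot k (PicGrp.cls _ hH) (PicGrp.cls _ hH) = 1 ∧ sdot k (PicGrp.cls _ hH) (PicGrp.cls W hWi) = -3 := by
  obtain ⟨W₀, hW₀, hT, hExt, hsq, hK⟩ := plane_numbers (k := k)
  letI : (CohB1.ProjSpace 2 k).Over (Spec (CommRingCat.of k)) := ⟨CohB1.ProjSpace.toSpec 2 k⟩
  haveI : IsProper ((CohB1.ProjSpace 2 k) ↘ Spec (CommRingCat.of k)) := ProjSpace.isProper_toSpec 2 k
  haveI : IsNoetherian (CohB1.ProjSpace 2 k) :=
    CohFound.isNoetherian_of_isProper ((CohB1.ProjSpace 2 k) ↘ Spec (CommRingCat.of k))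
  have hd := SurfRR10.dim_eq (k := k) (X := X) hdim
  have hdP : topologicalKrullDim (CohB1.ProjSpace 2 k) ≤ ((2 : ℕ) : WithBot ℕ∞) := by
    rw [Groth.Agent.S10829.result k 2]
  let J := Scheme.IdealSheafData.vanishingIdeal (⟨Set.range P, hZ⟩ : Closeds ↥(CohB1.ProjSpace 2 k))
  let E := BlowUp.exceptional σ J
  have hJ : (J.support : Set ↥(CohB1.ProjSpace 2 k)) = Set.range P := Scheme.IdealSheafData.coe_support_vanishingIdeal _
  let V : (CohB1.ProjSpace 2 k).Opens := EffCartier.cmpl J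
  haveI : IsIso (σ ∣_ V) := EffCartier.isIso_blowUp_restrict hσ
  haveI : IsProper σ := BlowUpExist.isProper (BlowUpReg6.isFiniteTypeIdeal _) hσ
  have hmem : ∀ z : X, z ∈ (E.support : Set X) ↔ σ z ∈ Set.range P := fun z => by
    show z ∈ (J.comap σ).support ↔ _
    rw [Scheme.IdealSheafData.support_comap, ← hJ]
    rfl
  constructor
  · have hd2 : topologicalKrullDim ↥((V : Set ↥(CohB1.ProjSpace 2 k))ᶜ) ≤ ((0 : ℕ) : WithBot ℕ∞) := by
      refine dim_le_zero_of_finite ((Set.finite_range P).subset fun z hz => ?_) fun z hz => ?_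
      · exact hJ.le (not_not.1 hz)
      · obtain ⟨i, rfl⟩ := hJ.le (not_not.1 hz)
        exact hPc i
    refine Eq.trans ?_ hsq
    exact sdot_pullback_birational (k := k) hdim σ hσk hdP V hd2 hT hT hH hH
  · let W' := (Scheme.Modules.pullback σ).obj W₀
    have hW' : PicF.IsInvertible W' := Twist.isInvertible_pullback σ hW₀
    let U : X.Opens := E.support.compl
    let R := Scheme.Modules.restrictFunctor U.ι
    obtain ⟨eU⟩ : Nonempty (R.obj W ≅ R.obj W') := by
      have hUV : U = σ ⁻¹ᵁ V := by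
        ext z
        show ¬ z ∈ (E.support : Set X) ↔ ¬ σ z ∈ (J.support : Set _)
        rw [hmem, hJ]
      haveI : IsOpenImmersion (U.ι ≫ σ) := by
        rw [hUV, ← morphismRestrict_ι]
        infer_instance
      have h1 := Groth.Agent.S15540.result X (Spec (CommRingCat.of k)) U.toScheme (Spec (CommRingCat.of k))
        (X ↘ (Spec (CommRingCat.of k))) (U.ι ≫ σ ≫ CohB1.ProjSpace.toSpec 2 k) U.ι (𝟙 _)
        (by rw [Category.comp_id, hσk]) 2 W hW
      have h2 := Groth.Agent.S15540.result (CohB1.ProjSpace 2 k) (Spec (CommRingCat.of k)) U.toScheme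
        (Spec (CommRingCat.of k)) (CohB1.ProjSpace.toSpec 2 k) (U.ι ≫ σ ≫ CohB1.ProjSpace.toSpec 2 k) (U.ι ≫ σ) (𝟙 _)
        (by rw [Category.comp_id, Category.assoc]) 2 W₀ hExt
      obtain ⟨i⟩ := ExtFil4.isoExtPow h1 h2
      exact ⟨(Scheme.Modules.restrictFunctorIsoPullback U.ι).app W ≪≫ i ≪≫
        ((Scheme.Modules.pullbackComp U.ι σ).app W₀).symm ≪≫ ((Scheme.Modules.restrictFunctorIsoPullback U.ι).app W').symm⟩
    obtain ⟨D', hD', ⟨eD⟩⟩ := M2.exists_inverse hW'
    have hM := M2.isInvertible_tensor hWi hD'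
    have hz := sdot_eq_zero_of_trivial_off (k := k) hdim hσ.1 hM
      (M2.restrictTensorIso U.ι W D' ≪≫ M2.tensorIso eU (Iso.refl _) ≪≫ (M2.restrictTensorIso U.ι W' D').symm ≪≫
        R.mapIso eD) (PicGrp.cls _ hH) fun ξ hξ hξE => by
      have key : sdot k (ccl (k := k) hdim ξ) (PicGrp.cls _ hH) = 0 := by
        refine sdot_pullback_eq_zero (k := k) hdim σ hT hξ (σ ξ) fun x hx => ?_
        obtain ⟨i, hi⟩ := (hmem ξ).1 hξE
        have h := (hx.map σ.continuous).mem_closed (hPc i) hi.symm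
        exact h.trans hi
      rwa [ccl, Goodman10.cl'_eq (k := k) _ _ hξ] at key
    rw [← AlgEquiv22.cls_tensor hWi hD', ← PicGrp.cls_inv_eq_cls hW' hD' ⟨eD⟩,
      SymSq10.sdot_mul (k := k) hd.le, SurfRR10.sdot_inv_left (k := k) hdim] at hz
    have hpull : sdot k (PicGrp.cls W' hW') (PicGrp.cls _ hH) = -3 := by
      rw [← hK, SymSq10.sdot_comm (PicGrp.cls (Twist.twistProjSpace 2 k 1) hT)]
      have hd2 : topologicalKrullDim ↥((V : Set ↥(CohB1.ProjSpace 2 k))ᶜ) ≤ ((0 : ℕ) : WithBot ℕ∞) := by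
        refine dim_le_zero_of_finite ((Set.finite_range P).subset fun z hz => ?_) fun z hz => ?_
        · exact hJ.le (not_not.1 hz)
        · obtain ⟨i, rfl⟩ := hJ.le (not_not.1 hz)
          exact hPc i
      exact sdot_pullback_birational (k := k) hdim σ hσk hdP V hd2 hW₀ hT hW' hH
    rw [SymSq10.sdot_comm]
    linarith

end Groth.Agent.PlaneBlow10
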